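import Groth.Prelude.Def_Omega4
import Groth.Agent.SteinEtale21.Main
import Groth.Agent.Lib.Stein.NormalBase
import Groth.Agent.Lib.RedSmooth.Basic
import Mathlib.AlgebraicGeometry.Normalization
import Mathlib.RingTheory.Etale.Basic

/-!
# Derivations relative to a morphism kill global functions when the Stein factor is étale
-/

set_option autoImplicit false
set_option linter.style.haveILetI false

universe u

open CategoryTheory CategoryTheory.Limits AlgebraicGeometry Opposite TopologicalSpace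

namespace GrothLib.SteinDer29

variable {X S : Scheme.{u}} (f : X ⟶ S)

theorem etale_app_of_affine [UniversallyClosed f] [QuasiCompact f] [QuasiSeparated f]
    (hE : Etale f.fromNormalization) {V : S.Opens} (hV : IsAffineOpen V) :
    (f.app V).hom.Etale := by
  letI := (f.app V).hom.toAlgebra
  have hi : (f.app V).hom.IsIntegral := GrothLib.Stein.isIntegral_app_of_universallyClosed f hV
  have htop : integralClosure Γ(S, V) Γ(X, f ⁻¹ᵁ V) = ⊤ :=
    eq_top_iff.2 fun x _ => hi x
  have hW : IsAffineOpen (f.fromNormalization ⁻¹ᵁ V) := hV.preimage _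
  have h1 : (f.fromNormalization.app V).hom.Etale := by
    rw [Scheme.Hom.app_eq_appLE]
    haveI := hE
    exact Etale.etale_appLE f.fromNormalization hV hW le_rfl
  rw [Scheme.Hom.fromNormalization_app f hV] at h1
  let e : Γ(f.normalization, f.fromNormalization ⁻¹ᵁ V) ≃+* Γ(X, f ⁻¹ᵁ V) :=
    (f.normalizationObjIso hV).commRingCatIsoToRingEquiv.trans
      ((Subalgebra.equivOfEq _ _ htop).trans Subalgebra.topEquiv).toRingEquiv
  have h2 := RingHom.Etale.respectsIso.1 _ e h1
  convert h2 using 1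
  ext a
  change _ = e ((f.normalizationObjIso hV).inv.hom (algebraMap _ _ a))
  simp [e]
  exact congrArg Subtype.val (ConcreteCategory.congr_hom (f.normalizationObjIso hV).inv_hom_id (algebraMap _ _ a)).symm

theorem etale_fromNormalization_of_smooth [IsProper f] [Smooth f] :
    Etale f.fromNormalization := by
  haveI := Groth.Agent.GeomFibre21.geometricallyReduced_of_algClosed f
    (fun Ω _ _ σ => GrothLib.RedSmooth.isReduced_of_smooth (pullback.snd f σ))
  exact Groth.Agent.SteinEtale21.etale_fromNormalization f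

theorem app_preimage_eq_zero [IsProper f] [Smooth f] {M : X.Modules} (D : OmegaSh.Der f M)
    (V : S.Opens) (s : Γ(X, f ⁻¹ᵁ V)) : D.app (f ⁻¹ᵁ V) s = 0 := by
  have haff : ∀ (W : S.Opens), IsAffineOpen W → ∀ t : Γ(X, f ⁻¹ᵁ W), D.app (f ⁻¹ᵁ W) t = 0 := by
    intro W hW t
    have hE : (f.app W).hom.Etale :=
      etale_app_of_affine f (etale_fromNormalization_of_smooth f) hW
    let _ := (f.app W).hom.toAlgebra
    haveI : Algebra.Etale Γ(S, W) Γ(X, f ⁻¹ᵁ W) := hE
    let _ : Module Γ(S, W) Γ(M, f ⁻¹ᵁ W) := Module.compHom _ (f.app W).hom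
    haveI : IsScalarTower Γ(S, W) Γ(X, f ⁻¹ᵁ W) Γ(M, f ⁻¹ᵁ W) :=
      IsScalarTower.of_algebraMap_smul fun a m => rfl
    let δ : Derivation Γ(S, W) Γ(X, f ⁻¹ᵁ W) Γ(M, f ⁻¹ᵁ W) := Derivation.mk'
      { toFun := fun x => D.app (f ⁻¹ᵁ W) x
        map_add' := map_add _
        map_smul' := fun a x => by
          show D.app (f ⁻¹ᵁ W) ((f.app W).hom a * x) = (f.app W).hom a • D.app (f ⁻¹ᵁ W) x
          rw [OmegaSh.Der.app_apply, OmegaSh.Der.app_apply, D.d_mul, D.d_app, smul_zero, add_zero]
          rfl }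
      fun a b => D.d_mul (X := op (f ⁻¹ᵁ W)) a b
    have hδ : δ = 0 := by
      rw [← δ.liftKaehlerDifferential_comp, Subsingleton.elim δ.liftKaehlerDifferential 0]
      exact Derivation.ext fun x => rfl
    exact congrArg (fun e => (e : Derivation _ _ _) t) hδ
  refine TopCat.Sheaf.eq_of_locally_eq' ⟨M.presheaf, M.isSheaf⟩ (fun W : {W : S.affineOpens // W.1 ≤ V} => f ⁻¹ᵁ W.1.1)
    (f ⁻¹ᵁ V) (fun W => homOfLE (f.preimage_mono W.2)) ?_ _ _ fun W => ?_
  · intro x hx
    obtain ⟨W, hW, hxW, hWV⟩ := exists_isAffineOpen_mem_and_subset (U := V) hx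
    exact Opens.mem_iSup.2 ⟨⟨⟨W, hW⟩, hWV⟩, hxW⟩
  · refine Eq.trans ?_ (map_zero _).symm
    exact (D.d_map (homOfLE (f.preimage_mono W.2)).op s).symm.trans (haff W.1.1 W.1.2 _)

end GrothLib.SteinDer29
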